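import Groth.Agent.PushImage13.Module

/-!
# Quasi-coherent modules killed by the ideal of a closed subspace are direct images of quasi-coherent modules
-/

set_option autoImplicit false
set_option backward.isDefEq.respectTransparency false
set_option backward.isDefEq.respectTransparency.types false

noncomputable section

universe u

open CategoryTheory CategoryTheory.Limits AlgebraicGeometry Opposite AlgSp Topology TensorProduct
open Groth.Agent.AlgSpDec Groth.Agent.QCart13

namespace Groth.Agent.PushImage13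

variable {S : Scheme.{u}} {Z X : Sp S} {f : Z ⟶ X} (hrep : Representable f)

section Pair

variable {R R' A A' N N' : Type*} [CommRing R] [CommRing R'] [CommRing A] [CommRing A'] [Algebra R A] [Algebra R' A']
  [AddCommGroup N] [AddCommGroup N'] [Module R N] [Module R' N'] (φ : R →+* R') (ψ : A →+* A')
  (h : ∀ r, ψ (algebraMap R A r) = algebraMap R' A' (φ r)) (g : N →+ N') (hg : ∀ r n, g (r • n) = φ r • g n)

/-- The map of extended modules along compatible maps. -/
def pairMap : A ⊗[R] N →+ A' ⊗[R'] N' :=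
  TensorProduct.liftAddHom
    { toFun := fun a =>
        { toFun := fun n => ψ a ⊗ₜ g n
          map_zero' := by rw [map_zero, TensorProduct.tmul_zero]
          map_add' := fun x y => by rw [map_add, TensorProduct.tmul_add] }
      map_zero' := by ext n; simp
      map_add' := fun a b => by ext n; simp [TensorProduct.add_tmul] }
    fun r a n => by
      change ψ (r • a) ⊗ₜ[R'] g n = ψ a ⊗ₜ[R'] g (r • n)
      rw [hg, ← TensorProduct.smul_tmul, Algebra.smul_def, map_mul, h, Algebra.smul_def]

theorem pairMap_tmul (a : A) (n : N) : pairMap φ ψ h g hg (a ⊗ₜ n) = ψ a ⊗ₜ g n := rfl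

theorem pairMap_surjective (hψ : Function.Surjective ψ) (hgs : Function.Surjective g) :
    Function.Surjective (pairMap φ ψ h g hg) := by
  intro z
  induction z using TensorProduct.induction_on with
  | zero => exact ⟨0, map_zero _⟩
  | add x y hx hy =>
    obtain ⟨a, rfl⟩ := hx
    obtain ⟨b, rfl⟩ := hy
    exact ⟨a + b, map_add _ _ _⟩
  | tmul c n =>
    obtain ⟨a, rfl⟩ := hψ c
    obtain ⟨m, rfl⟩ := hgs n
    exact ⟨a ⊗ₜ m, pairMap_tmul φ ψ h g hg a m⟩

end Pair

theorem rTensor_fnT_comp {T : EtOver X} {U : Over T} {U₁ U₂ : Over T} (j : U₁ ⟶ U) (k : U₂ ⟶ U₁)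
    {N : Type*} [AddCommGroup N] [Module (Fn T) N] (z : Fn U.left ⊗[Fn T] N) :
    (fnT (k ≫ j)).rTensor N z = (fnT k).rTensor N ((fnT j).rTensor N z) := by
  have h : fnT (k ≫ j) = fnT k ∘ₗ fnT j := rfl
  rw [h, LinearMap.rTensor_comp, LinearMap.comp_apply]

section Transfer

variable {G : ModEt Z} {F : ModEt X}
  (eG : ∀ V : EtOver X, sectModEt G ((EtOver.bc hrep).obj V) ≃+ sectModEt F V)

theorem symm_smul (hsmul : ∀ (V : EtOver X) (c : Fn V) (a : sectModEt G ((EtOver.bc hrep).obj V)),
      eG V (π hrep V c • a) = c • eG V a) (V : EtOver X) (c : Fn V) (x : sectModEt F V) :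
    (eG V).symm (c • x) = π hrep V c • (eG V).symm x :=
  (eG V).injective (by rw [hsmul, AddEquiv.apply_symm_apply, AddEquiv.apply_symm_apply])

/-- Pullback of functions, between objects over objects below and their base changes. -/
def piOver {V V' : EtOver X} (v : V' ⟶ V) :
    Fn (Over.mk v).left →+* Fn (Over.mk ((EtOver.bc hrep).map v)).left := π hrep V'

theorem piOver_algebraMap {V V' : EtOver X} (v : V' ⟶ V) (r : Fn V) :
    piOver hrep v (algebraMap (Fn V) (Fn (Over.mk v).left) r) =
      algebraMap (Fn ((EtOver.bc hrep).obj V)) (Fn (Over.mk ((EtOver.bc hrep).map v)).left) (π hrep V r) :=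
  (π_natural hrep v r).symm

/-- The comparison of the extended modules. -/
def lam (hsmul : ∀ (V : EtOver X) (c : Fn V) (a : sectModEt G ((EtOver.bc hrep).obj V)),
      eG V (π hrep V c • a) = c • eG V a)
    {V V' : EtOver X} (v : V' ⟶ V) :
    Fn (Over.mk v).left ⊗[Fn V] sectModEt F V →+
      Fn (Over.mk ((EtOver.bc hrep).map v)).left ⊗[Fn ((EtOver.bc hrep).obj V)]
        sectModEt G ((EtOver.bc hrep).obj V) :=
  pairMap (π hrep V) (piOver hrep v) (piOver_algebraMap hrep v) (eG V).symm.toAddMonoidHom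
    (symm_smul hrep eG hsmul V)

theorem lam_tmul (hsmul : ∀ (V : EtOver X) (c : Fn V) (a : sectModEt G ((EtOver.bc hrep).obj V)),
      eG V (π hrep V c • a) = c • eG V a)
    {V V' : EtOver X} (v : V' ⟶ V) (b : Fn (Over.mk v).left) (x : sectModEt F V) :
    lam hrep eG hsmul v (b ⊗ₜ x) = piOver hrep v b ⊗ₜ (eG V).symm x :=
  pairMap_tmul _ _ _ _ _ _ _

variable (hi : RepWith @IsClosedImmersion f)
  (hres : ∀ {V V' : EtOver X} (v : V' ⟶ V) (a : sectModEt G ((EtOver.bc hrep).obj V)),
    eG V' (res G ((EtOver.bc hrep).map v) a) = res F v (eG V a))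
  (hsmul : ∀ (V : EtOver X) (c : Fn V) (a : sectModEt G ((EtOver.bc hrep).obj V)),
    eG V (π hrep V c • a) = c • eG V a)

include hres in
theorem eG_theta_lam {V V' : EtOver X} (v : V' ⟶ V) (w : Fn (Over.mk v).left ⊗[Fn V] sectModEt F V) :
    eG V' (theta G LinearMap.id (Over.mk ((EtOver.bc hrep).map v)) (lam hrep eG hsmul v w)) =
      theta F LinearMap.id (Over.mk v) w := by
  let θG : _ →+ sectModEt G ((EtOver.bc hrep).obj V') :=
    (theta G LinearMap.id (Over.mk ((EtOver.bc hrep).map v))).toAddMonoidHom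
  let L : Fn (Over.mk v).left ⊗[Fn V] sectModEt F V →+ sectModEt F V' :=
    (eG V').toAddMonoidHom.comp (θG.comp (lam hrep eG hsmul v))
  let R : Fn (Over.mk v).left ⊗[Fn V] sectModEt F V →+ sectModEt F V' :=
    (theta F LinearMap.id (Over.mk v)).toAddMonoidHom
  have key : L w = R w := by
    induction w using TensorProduct.induction_on with
    | zero => exact (map_zero L).trans (map_zero R).symm
    | add x y hx hy => exact (map_add L x y).trans ((congrArg₂ (· + ·) hx hy).trans (map_add R x y).symm)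
    | tmul b x =>
      change eG V' (π hrep V' (show Fn V' from b) • res G ((EtOver.bc hrep).map v) ((eG V).symm x)) =
        (show Fn V' from b) • res F v x
      refine (hsmul V' b _).trans ?_
      refine congrArg (fun y : sectModEt F V' => (show Fn V' from b) • y) ?_
      refine (hres v _).trans ?_
      exact congrArg (res F v) ((eG V).apply_symm_apply x)
  exact key

include hi in
theorem lam_surjective {V V' : EtOver X} (v : V' ⟶ V) (hV' : Aff V') :
    Function.Surjective (lam hrep eG hsmul v) :=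
  pairMap_surjective _ _ _ _ _ (π_surjective hrep hi hV') (eG V).symm.surjective

variable {eG} (hX : IsAlgSpace X)
include hi hX

omit eG in
theorem exists_bc_over {V : EtOver X} (T : Over ((EtOver.bc hrep).obj V)) :
    ∃ R ∈ etTop Z T.left, ∀ (T' : Over ((EtOver.bc hrep).obj V)) (h : T' ⟶ T), R h.left →
      ∃ (V' : EtOver X) (_ : Aff V') (v : V' ⟶ V) (j : Over.mk ((EtOver.bc hrep).map v) ⟶ T)
        (k : T' ⟶ Over.mk ((EtOver.bc hrep).map v)), k ≫ j = h := by
  choose V' hV' v j hw hj using exists_bc_nbhd hrep hi hX T.hom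
  refine ⟨_, AlgSpDec.ofArrows_mem_etTop (fun w => (EtOver.bc hrep).obj (V' w)) j fun w => ⟨w, hw w⟩,
    fun T' h hh => ?_⟩
  obtain ⟨w, a, ha⟩ := (Sieve.mem_ofArrows_iff _ _ _).1 hh
  have hk : a ≫ (EtOver.bc hrep).map (v w) = T'.hom := by
    rw [← hj w, ← Category.assoc, ← ha]
    exact Over.w h
  exact ⟨V' w, hV' w, v w, Over.homMk (j w) (hj w), Over.homMk a hk, Over.OverMorphism.ext ha.symm⟩

include hres hsmul

theorem locInj_bc {V : EtOver X}
    (hinj : ∀ {V' : EtOver X} (v : V' ⟶ V), Aff V' → Function.Injective (theta F LinearMap.id (Over.mk v))) :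
    LocInj G (LinearMap.id (R := Fn ((EtOver.bc hrep).obj V)) (M := sectModEt G ((EtOver.bc hrep).obj V))) := by
  intro T hT z hz
  obtain ⟨R, hR, hR'⟩ := exists_bc_over hrep hi hX T
  refine ⟨R, hR, fun T' h hT' hh => ?_⟩
  obtain ⟨V', hV', v, j, k, rfl⟩ := hR' T' h hh
  refine (rTensor_fnT_comp j k z).trans ((congrArg _ ?_).trans (map_zero _))
  obtain ⟨y, hy⟩ := lam_surjective hrep eG hi hsmul v hV'
    ((fnT j).rTensor (sectModEt G ((EtOver.bc hrep).obj V)) z)
  refine hy.symm.trans ((congrArg _ (hinj v hV' ?_)).trans (map_zero _))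
  refine (eG_theta_lam hrep eG hres hsmul v y).symm.trans ?_
  rw [hy, ← res_theta, hz, map_zero]
  exact (map_zero (eG V')).trans (map_zero _).symm

theorem locSurj_bc {V : EtOver X}
    (hsur : ∀ {V' : EtOver X} (v : V' ⟶ V), Aff V' → Function.Surjective (theta F LinearMap.id (Over.mk v))) :
    LocSurj G (LinearMap.id (R := Fn ((EtOver.bc hrep).obj V)) (M := sectModEt G ((EtOver.bc hrep).obj V))) := by
  intro T hT s
  obtain ⟨R, hR, hR'⟩ := exists_bc_over hrep hi hX T
  refine ⟨R, hR, fun T' h hT' hh => ?_⟩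
  obtain ⟨V', hV', v, j, k, rfl⟩ := hR' T' h hh
  obtain ⟨y, hy⟩ := hsur v hV' (eG V' (res G j.left s))
  refine ⟨(fnT k).rTensor _ (lam hrep eG hsmul v y), ?_⟩
  refine (res_theta G LinearMap.id k _).symm.trans ?_
  refine Eq.trans (congrArg _ ((eG V').injective ((eG_theta_lam hrep eG hres hsmul v y).trans hy))) ?_
  exact (res_comp G k.left j.left s).symm

theorem cart_bc {V : EtOver X} (hV : Aff V) (hFV : Cart F V) : Cart G ((EtOver.bc hrep).obj V) :=
  cart_of_locally (aff_bc hrep hi hV)
    (locInj_bc hrep hi hres hsmul hX fun v hV' => (bijective_bcMor hFV (Over.mk v) hV').1)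
    (locSurj_bc hrep hi hres hsmul hX fun v hV' => (bijective_bcMor hFV (Over.mk v) hV').2)

theorem cart_of_transfer (hF : ∀ V : EtOver X, Aff V → Cart F V) (W : EtOver Z) (hW : Aff W) : Cart G W := by
  obtain ⟨R, hR, hR'⟩ := bcSieve_mem hrep hi hX W
  obtain ⟨c, hc⟩ := exists_cov hW hR
  refine cart_of_cov hW c fun k => ?_
  obtain ⟨V, hV, a, b, -⟩ := hR' _ _ (hc k)
  exact cart_of_hom G (cart_bc hrep hi hres hsmul hX hV (hF V hV)) a (c.aff k)

theorem isQuasicoherent_of_transfer (hF : ∀ V : EtOver X, Aff V → Cart F V) : G.IsQuasicoherent :=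
  isQuasicoherent_of_cart G (cart_of_transfer hrep hi hres hsmul hX hF)

end Transfer

section EssImage

variable {F : ModEt X} (hi : RepWith @IsClosedImmersion f)

theorem killed_of_le {I : IdealEt X} (hI : idealOfRep hrep = I)
    (hann : ∀ (E : EtOver X) (hE : Aff E) (s : sectModEt F E), I.ideal E hE ≤ annSect s) :
    Killed hrep F := fun V hV a ha x =>
  (mem_annSect_iff x a).1 (hann V hV x ((mem_ideal_iff hrep hI V hV a).2 ha))

theorem eq_zero_of_empty (hF : Killed hrep F) (E : EtOver X) (hE : IsEmpty ↥(EtOver.bcObj hrep E).obj.left.left)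
    (x : sectModEt F E) : x = 0 :=
  eq_of_aff F x 0 fun V g hV => by
    haveI : IsEmpty ↥(EtOver.bcObj hrep V).obj.left.left :=
      Function.isEmpty (EtOver.bcMap hrep g).hom.left.left
    haveI : Subsingleton (Fn ((EtOver.bc hrep).obj V)) :=
      inferInstanceAs (Subsingleton Γ((EtOver.bcObj hrep V).obj.left.left, ⊤))
    rw [map_zero, ← one_smul (Fn V) (res F g x)]
    exact hF V hV 1 (Subsingleton.elim _ _) _

include hi in
theorem exists_sheaf_iso (hX : IsAlgSpace X) (hF : Killed hrep F) :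
    ∃ A : AbEt Z, Nonempty ((pushEt hrep AddCommGrpCat.{u + 1}).obj A ≅ (toAbEt X).obj F) := by
  refine PushDense13.mem_essImage hrep (PushDense13.dense_of_isClosedImmersion hrep hX hi)
    (PushDense13.emb_of_isClosedImmersion hrep hi) (fun E => ?_) ((toAbEt X).obj F) fun E hE => ?_
  · haveI : IsClosedImmersion (EtOver.bcπ hrep E).left := hi.2 E.obj.hom _ _ (hrep.isPullback E.obj.hom)
    exact (EtOver.bcπ hrep E).left.isClosedEmbedding.isClosed_range
  · haveI : Subsingleton (((toAbEt X).obj F).obj.obj (op E)) :=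
      ⟨fun x y => (eq_zero_of_empty hrep hF E hE x).trans (eq_zero_of_empty hrep hF E hE y).symm⟩
    exact ⟨(AddCommGrpCat.isZero_of_subsingleton _).isTerminal⟩

include hi in
theorem exists_pushIso (hX : IsAlgSpace X) (hqc : F.IsQuasicoherent) (hF : Killed hrep F) :
    ∃ G : ModEt Z, G.IsQuasicoherent ∧ Nonempty ((pushModEt hrep).obj G ≅ F) := by
  obtain ⟨A, ⟨e⟩⟩ := exists_sheaf_iso hrep hi hX hF
  refine ⟨modAbove e hi hF hX, ?_, ⟨pushIso e hi hF hX⟩⟩
  exact isQuasicoherent_of_transfer hrep (eG := eV e) hi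
    (fun v a => eV_map e v a) (fun V c a => eV_smul e hi hF hX V c a) hX
    fun V hV => cart_of_isQuasicoherent F hV

end EssImage

end Groth.Agent.PushImage13

end
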