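import Groth.Agent.QCart13.Abelian
import Groth.Agent.PushDense13.Modules
import Groth.Agent.PushDense13.EssImage
import Groth.Prelude.Def_AlgSpModX

/-!
# Affine objects and the small etale site of a closed subspace
-/

set_option autoImplicit false
set_option backward.isDefEq.respectTransparency false
set_option backward.isDefEq.respectTransparency.types false

noncomputable section

universe u

open CategoryTheory CategoryTheory.Limits AlgebraicGeometry Opposite AlgSp Topology
open Groth.Agent.AlgSpDec Groth.Agent.QCart13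

namespace Groth.Agent.PushImage13

variable {S : Scheme.{u}} {Z X : Sp S} {f : Z ⟶ X} (hrep : Representable f)

/-- Pullback of functions to a base change. -/
def π (V : EtOver X) : Fn V →+* Fn ((EtOver.bc hrep).obj V) := (EtOver.bcπ hrep V).left.appTop.hom

theorem bcRingHom_app (V : EtOver X) (a : Fn V) :
    (bcRingHom hrep).hom.app (op V) (upΓ V a) = upΓ ((EtOver.bc hrep).obj V) (π hrep V a) := rfl

theorem π_natural {V V' : EtOver X} (v : V' ⟶ V) (a : Fn V) :
    rmap ((EtOver.bc hrep).map v) (π hrep V a) = π hrep V' (rmap v a) := by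
  have h := congrArg CommaMorphism.left (EtOver.bcMap_snd hrep v)
  simp only [Over.comp_left] at h
  have h2 := congrArg (fun k => k.appTop.hom a) h
  simp only [Scheme.Hom.comp_appTop, CommRingCat.hom_comp, RingHom.comp_apply] at h2
  exact h2

theorem mem_ideal_iff {I : IdealEt X} (hI : idealOfRep hrep = I) (V : EtOver X) (hV : Aff V) (a : Fn V) :
    a ∈ I.ideal V hV ↔ π hrep V a = 0 := by
  subst hI
  rfl

variable (hi : RepWith @IsClosedImmersion f)
include hi

theorem aff_bc {V : EtOver X} (hV : Aff V) : Aff ((EtOver.bc hrep).obj V) := by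
  haveI : IsAffine V.obj.left.left := hV
  haveI : IsClosedImmersion (EtOver.bcπ hrep V).left := hi.2 V.obj.hom _ _ (hrep.isPullback V.obj.hom)
  exact isAffine_of_isAffineHom (EtOver.bcπ hrep V).left

theorem π_surjective {V : EtOver X} (hV : Aff V) : Function.Surjective (π hrep V) := by
  haveI : IsClosedImmersion (EtOver.bcπ hrep V).left := hi.2 V.obj.hom _ _ (hrep.isPullback V.obj.hom)
  haveI : IsAffine V.obj.left.left := hV
  intro x
  obtain ⟨y, hy⟩ := (EtOver.bcπ hrep V).left.app_surjective ⊤ (isAffineOpen_top _) x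
  exact ⟨y, hy⟩

variable (hX : IsAlgSpace X)
include hX

/-- Near a point, a map to a base change is a base change of a map of affine objects. -/
theorem exists_bc_nbhd {W : EtOver Z} {V : EtOver X} (h : W ⟶ (EtOver.bc hrep).obj V) (w : ↥W.obj.left.left) :
    ∃ (V' : EtOver X) (_ : Aff V') (v : V' ⟶ V) (j : (EtOver.bc hrep).obj V' ⟶ W),
      w ∈ Set.range j.hom.left.left ∧ j ≫ h = (EtOver.bc hrep).map v := by
  have hd := PushDense13.dense_of_isClosedImmersion hrep hX hi
  haveI := PushDense13.isLocallyFull hrep (PushDense13.emb_of_isClosedImmersion hrep hi)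
  obtain ⟨V₁, g, x, rfl⟩ := hd W w
  have hs := Functor.functorPushforward_imageSieve_mem (K := etTop Z) (EtOver.bc hrep) (g ≫ h)
  obtain ⟨Y, a, ⟨V₂, g₁, b, ⟨v, hv⟩, rfl⟩, y, hy⟩ := exists_mem_range hs x
  let y₂ := b.hom.left.left y
  obtain ⟨V₃, ι, hV₃, hy₃⟩ := exists_aff_open V₂ ((EtOver.bcπ hrep V₂).left y₂)
  obtain ⟨z, hz⟩ := PushDense13.mem_range_bc_map hrep ι y₂ hy₃
  refine ⟨V₃, hV₃, ι ≫ v, (EtOver.bc hrep).map ι ≫ (EtOver.bc hrep).map g₁ ≫ g, ⟨z, ?_⟩, ?_⟩
  · refine (Scheme.Hom.comp_apply _ _ z).trans ?_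
    rw [hz]
    refine (Scheme.Hom.comp_apply ((EtOver.bc hrep).map g₁).hom.left.left g.hom.left.left y₂).trans ?_
    congr 1
  · rw [Category.assoc, Category.assoc, Functor.map_comp, hv]

/-- Near a point, an object is covered by base changes of affine objects. -/
theorem exists_bc_nbhd' (W : EtOver Z) (w : ↥W.obj.left.left) :
    ∃ (V : EtOver X) (_ : Aff V) (j : (EtOver.bc hrep).obj V ⟶ W), w ∈ Set.range j.hom.left.left := by
  obtain ⟨V₁, g, x, rfl⟩ := PushDense13.dense_of_isClosedImmersion hrep hX hi W w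
  obtain ⟨V, hV, v, j, ⟨y, hy⟩, -⟩ := exists_bc_nbhd hrep hi hX (𝟙 ((EtOver.bc hrep).obj V₁)) x
  exact ⟨V, hV, j ≫ g, y, (Scheme.Hom.comp_apply _ _ y).trans (congrArg _ hy)⟩

/-- The sieve of maps from base changes of affine objects. -/
theorem bcSieve_mem (W : EtOver Z) : ∃ R ∈ etTop Z W, ∀ (Y : EtOver Z) (g : Y ⟶ W), R g →
    ∃ (V : EtOver X) (_ : Aff V) (a : Y ⟶ (EtOver.bc hrep).obj V) (b : (EtOver.bc hrep).obj V ⟶ W), a ≫ b = g := by
  choose V hV j hj using exists_bc_nbhd' hrep hi hX W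
  refine ⟨_, AlgSpDec.ofArrows_mem_etTop (fun w => (EtOver.bc hrep).obj (V w)) j fun w => ⟨w, hj w⟩,
    fun Y g hg => ?_⟩
  obtain ⟨i, k, rfl⟩ := (Sieve.mem_ofArrows_iff _ _ _).1 hg
  exact ⟨V i, hV i, k, j i, rfl⟩

/-- Two sections agree if they agree on base changes of affine objects. -/
theorem eq_of_bc (A : Sheaf (etTop Z) AddCommGrpCat.{u + 1}) {W : EtOver Z} (x y : A.obj.obj (op W))
    (h : ∀ (V : EtOver X), Aff V → ∀ b : (EtOver.bc hrep).obj V ⟶ W, A.obj.map b.op x = A.obj.map b.op y) :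
    x = y := by
  obtain ⟨R, hR, hR'⟩ := bcSieve_mem hrep hi hX W
  refine (((isSheaf_iff_isSheaf_of_type _ _).1
    ((sheafCompose (etTop Z) (CategoryTheory.forget AddCommGrpCat.{u + 1})).obj A).property).isSeparated _ hR).ext
    fun Y g hg => ?_
  obtain ⟨V, hV, a, b, rfl⟩ := hR' Y g hg
  change A.obj.map (a ≫ b).op x = A.obj.map (a ≫ b).op y
  rw [op_comp, Functor.map_comp]
  exact congrArg (A.obj.map a.op) (h V hV b)

omit hi hX in
theorem annSect_le {I : IdealEt X} (hI : idealOfRep hrep = I) (G : ModEt Z) (E : EtOver X)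
    (hE : Aff E) (s : sectModEt ((pushModEt hrep).obj G) E) : I.ideal E hE ≤ annSect s := by
  intro a ha
  rw [mem_annSect_iff]
  change (bcRingHom hrep).hom.app (op E) (upΓ E a) • (show G.val.obj (op ((EtOver.bc hrep).obj E)) from s) = 0
  rw [bcRingHom_app, (mem_ideal_iff hrep hI E hE a).1 ha, map_zero, zero_smul]

end Groth.Agent.PushImage13

end
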