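import Groth.Agent.PushImage13.QC
import Groth.Agent.QCart13.Sub
import Mathlib.CategoryTheory.Adjunction.Comma

/-!
# The right adjoint of the direct image along a closed immersion on quasi-coherent modules
-/

set_option autoImplicit false
set_option backward.isDefEq.respectTransparency false
set_option backward.isDefEq.respectTransparency.types false

noncomputable section

universe u

open CategoryTheory CategoryTheory.Limits AlgebraicGeometry Opposite AlgSp Topology TensorProduct
open Groth.Agent.AlgSpDec Groth.Agent.QCart13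

namespace Groth.Agent.PushImage13

variable {S : Scheme.{u}} {Z X : Sp S} {f : Z ⟶ X} (hrep : Representable f) (F : ModEt X)

/-- The largest quasi-coherent submodule killed by the ideal of the closed subspace. -/
def killQ : ModEt X := Gen.satSheaf (qcohSub (Gen.satSheaf (annSub (idealOfRep hrep) F)))

/-- Its inclusion. -/
def killι : killQ hrep F ⟶ F :=
  Gen.satι (qcohSub (Gen.satSheaf (annSub (idealOfRep hrep) F))) ≫ Gen.satι (annSub (idealOfRep hrep) F)

theorem mono_killι : Mono (killι hrep F) :=
  haveI := Gen.mono_satι (qcohSub (Gen.satSheaf (annSub (idealOfRep hrep) F)))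
  haveI := Gen.mono_satι (annSub (idealOfRep hrep) F)
  mono_comp _ _

theorem isQuasicoherent_killQ [F.IsQuasicoherent] : (killQ hrep F).IsQuasicoherent :=
  haveI := Gen.mono_satι (annSub (idealOfRep hrep) F)
  isQuasicoherent_largest (G := Gen.satSheaf (annSub (idealOfRep hrep) F))
    (Gen.satι (annSub (idealOfRep hrep) F))

variable {F} in
theorem smul_eq_zero_of_mem_sat (I : IdealEt X) (V : EtOver X) (hV : Aff V) (x : sectModEt F V)
    (hx : x ∈ (Gen.sat (annSub I F)).obj (op V)) (a : Fn V) (ha : a ∈ I.ideal V hV) : a • x = 0 := by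
  obtain ⟨c, hc⟩ := exists_cov hV hx
  refine c.ext F fun i => ?_
  rw [res_smul]
  have h := hc i (c.T i).left (𝟙 _) (c.aff i) (rmap (c.T i).hom a)
    (I.map_le (c.T i).hom hV (c.aff i) (Ideal.mem_map_of_mem _ ha))
  rwa [res_id] at h

theorem killed_killQ : Killed hrep (killQ hrep F) := by
  intro V hV a ha x
  haveI := mono_killι hrep F
  apply injective_appL (killι hrep F) V
  rw [map_smul, map_zero]
  exact smul_eq_zero_of_mem_sat (idealOfRep hrep) V hV _
    (appL (Gen.satι (qcohSub (Gen.satSheaf (annSub (idealOfRep hrep) F)))) V x).2 a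
    ((mem_ideal_iff hrep rfl V hV a).2 ha)

theorem exists_lift_killQ {H : ModEt X} [H.IsQuasicoherent] (hH : Killed hrep H) (φ : H ⟶ F) :
    ∃ ψ : H ⟶ killQ hrep F, ψ ≫ killι hrep F = φ := by
  have hmem : ∀ (W : EtOver X) (d : sectModEt H W), appL φ W d ∈ (Gen.sat (annSub (idealOfRep hrep) F)).obj (op W) :=
    fun W d => Gen.le_sat _ fun V g hV a ha => by
      change a • res F g (appL φ W d) = 0
      rw [res_appL, ← map_smul, hH V hV a ((mem_ideal_iff hrep rfl V hV a).1 ha), map_zero]
  refine ⟨qcohLift _ (Gen.satLift _ φ hmem), ?_⟩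
  exact (Category.assoc _ _ _).symm.trans
    ((congrArg (· ≫ Gen.satι (annSub (idealOfRep hrep) F)) (Gen.satLift_ι _ _ _)).trans (Gen.satLift_ι _ φ hmem))

theorem killed_push (G : ModEt Z) : Killed hrep ((pushModEt hrep).obj G) := fun V hV a ha x =>
  (mem_annSect_iff x a).1 (annSect_le hrep rfl G V hV x ((mem_ideal_iff hrep rfl V hV a).2 ha))

variable (hi : RepWith @IsClosedImmersion f) (hX : IsAlgSpace X)
include hi hX

theorem faithful_push : (pushModEt hrep).Faithful :=
  PushDense13.faithful_pushModEt hrep (PushDense13.dense_of_isClosedImmersion hrep hX hi)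
    (PushDense13.emb_of_isClosedImmersion hrep hi)

theorem full_push : (pushModEt hrep).Full :=
  PushDense13.full_pushModEt hrep (PushDense13.dense_of_isClosedImmersion hrep hX hi)
    (PushDense13.emb_of_isClosedImmersion hrep hi) fun V hV y => by
    obtain ⟨c, hc⟩ := π_surjective hrep hi hV y.down
    exact ⟨upΓ V c, (bcRingHom_app hrep V c).trans (congrArg ULift.up hc)⟩

theorem exists_universal [F.IsQuasicoherent] :
    ∃ (G : ModEt Z) (_ : G.IsQuasicoherent) (ε : (pushModEt hrep).obj G ⟶ F),
      ∀ (G' : ModEt Z), ((pushModEt hrep).obj G').IsQuasicoherent → ∀ φ : (pushModEt hrep).obj G' ⟶ F,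
        ∃! ψ : G' ⟶ G, (pushModEt hrep).map ψ ≫ ε = φ := by
  obtain ⟨G, hG, ⟨e⟩⟩ := exists_pushIso hrep hi hX (isQuasicoherent_killQ hrep F) (killed_killQ hrep F)
  refine ⟨G, hG, e.hom ≫ killι hrep F, fun G' hG' φ => ?_⟩
  haveI := full_push hrep hi hX
  haveI := faithful_push hrep hi hX
  haveI := mono_killι hrep F
  haveI : Mono (e.hom ≫ killι hrep F) := mono_comp _ _
  obtain ⟨χ, hχ⟩ := exists_lift_killQ hrep F (killed_push hrep G') φ
  obtain ⟨ψ, hψ⟩ := (pushModEt hrep).map_surjective (χ ≫ e.inv)
  have h : (pushModEt hrep).map ψ ≫ e.hom ≫ killι hrep F = φ := by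
    rw [hψ, Category.assoc, e.inv_hom_id_assoc, hχ]
  exact ⟨ψ, h, fun ψ' h' => (pushModEt hrep).map_injective ((cancel_mono (e.hom ≫ killι hrep F)).1 (h'.trans h.symm))⟩

theorem isLeftAdjoint_lift
    (hq : ∀ G : ModEt Z, G.IsQuasicoherent → ((pushModEt hrep).obj G).IsQuasicoherent) :
    ((SheafOfModules.isQuasicoherent (OEtRing X)).lift
        ((SheafOfModules.isQuasicoherent (OEtRing Z)).ι ⋙ pushModEt hrep)
        (fun G => hq G.obj G.property)).IsLeftAdjoint := by
  rw [isLeftAdjoint_iff_hasTerminal_costructuredArrow]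
  intro A
  haveI : A.obj.IsQuasicoherent := A.property
  obtain ⟨G, hG, ε, huniv⟩ := exists_universal hrep A.obj hi hX
  let G₀ : (SheafOfModules.isQuasicoherent (OEtRing Z)).FullSubcategory := ⟨G, hG⟩
  refine IsTerminal.hasTerminal (X := CostructuredArrow.mk (Y := G₀) (ObjectProperty.homMk ε))
    (IsTerminal.ofUniqueHom (fun B => CostructuredArrow.homMk
      (ObjectProperty.homMk (huniv B.left.obj (hq _ B.left.property) B.hom.hom).choose)
      (ObjectProperty.hom_ext _ (huniv B.left.obj (hq _ B.left.property) B.hom.hom).choose_spec.1)) fun B m => ?_)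
  refine CostructuredArrow.ext _ _ (ObjectProperty.hom_ext _ ?_)
  exact (huniv B.left.obj (hq _ B.left.property) B.hom.hom).choose_spec.2 _
    (congrArg InducedCategory.Hom.hom (CostructuredArrow.w m))

end Groth.Agent.PushImage13

end
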