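import Groth.Agent.PushImage13.Base

/-!
# The action of the functions of a closed subspace on a module killed by its ideal
-/

set_option autoImplicit false
set_option backward.isDefEq.respectTransparency false
set_option backward.isDefEq.respectTransparency.types false

noncomputable section

universe u

open CategoryTheory CategoryTheory.Limits AlgebraicGeometry Opposite AlgSp Topology
open Groth.Agent.AlgSpDec Groth.Agent.QCart13

namespace Groth.Agent.PushImage13

variable {S : Scheme.{u}} {Z X : Sp S} {f : Z ⟶ X} (hrep : Representable f) (F : ModEt X)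

/-- Sections killed by the kernels of restriction to the closed subspace. -/
def Killed : Prop := ∀ (V : EtOver X), Aff V → ∀ (a : Fn V), π hrep V a = 0 → ∀ x : sectModEt F V, a • x = 0

theorem eq_of_aff {V : EtOver X} (x y : sectModEt F V)
    (h : ∀ (V' : EtOver X) (g : V' ⟶ V), Aff V' → res F g x = res F g y) : x = y := by
  refine sub_eq_zero.1 (Gen.eq_zero_of_local F (x - y)
    (covering_of_affine (R := Sieve.generate (fun V' => {_g : V' ⟶ V | Aff V'}))
      fun W j hW => Sieve.le_generate _ _ _ hW) fun Y g hg => ?_)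
  obtain ⟨Y', a, b, hb, rfl⟩ := hg
  change res F (a ≫ b) (x - y) = 0
  rw [map_sub, res_comp, res_comp, h Y' b hb, sub_self]

/-- The property of being the product by a function on the closed subspace. -/
def IsProd {V : EtOver X} (r : Fn ((EtOver.bc hrep).obj V)) (x y : sectModEt F V) : Prop :=
  ∀ (V' : EtOver X) (g : V' ⟶ V), Aff V' → ∀ r' : Fn V',
    π hrep V' r' = rmap ((EtOver.bc hrep).map g) r → res F g y = r' • res F g x

variable (hi : RepWith @IsClosedImmersion f)
include hi

theorem isProd_unique {V : EtOver X} {r : Fn ((EtOver.bc hrep).obj V)} {x y y' : sectModEt F V}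
    (h : IsProd hrep F r x y) (h' : IsProd hrep F r x y') : y = y' :=
  eq_of_aff F y y' fun V' g hV' => by
    obtain ⟨r', hr'⟩ := π_surjective hrep hi hV' (rmap ((EtOver.bc hrep).map g) r)
    rw [h V' g hV' r' hr', h' V' g hV' r' hr']

variable (hF : Killed hrep F)
include hF

theorem exists_isProd {V : EtOver X} (r : Fn ((EtOver.bc hrep).obj V)) (x : sectModEt F V) :
    ∃ y, IsProd hrep F r x y := by
  have key : ∀ (V' : EtOver X) (g : V' ⟶ V), ∃ y : sectModEt F V', Aff V' → ∀ r', π hrep V' r' =
      rmap ((EtOver.bc hrep).map g) r → y = r' • res F g x := by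
    intro V' g
    by_cases hV' : Aff V'
    · obtain ⟨r₀, hr₀⟩ := π_surjective hrep hi hV' (rmap ((EtOver.bc hrep).map g) r)
      refine ⟨r₀ • res F g x, fun _ r' hr' => sub_eq_zero.1 ?_⟩
      rw [← sub_smul]
      exact hF V' hV' _ (by rw [map_sub, hr₀, hr', sub_self]) _
    · exact ⟨0, fun h => absurd h hV'⟩
  choose y hy using key
  have nat : ∀ (V₁ V₂ : EtOver X) (g : V₁ ⟶ V) (k : V₂ ⟶ V₁), Aff V₁ → Aff V₂ →
      res F k (y V₁ g) = y V₂ (k ≫ g) := by
    intro V₁ V₂ g k h₁ h₂
    obtain ⟨r₁, hr₁⟩ := π_surjective hrep hi h₁ (rmap ((EtOver.bc hrep).map g) r)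
    rw [hy V₁ g h₁ r₁ hr₁, res_smul, hy V₂ (k ≫ g) h₂ (rmap k r₁) (by
      rw [← π_natural, hr₁, Functor.map_comp, rmap_comp]), res_comp]
  choose W j hW hj using exists_aff_open V
  have hS := AlgSpDec.ofArrows_mem_etTop W j fun v => ⟨v, hj v⟩
  have hs := (Presieve.isSheafFor_iff_generate _).2 ((isSheaf_iff_isSheaf_of_type _ _).1
    ((Presheaf.isSheaf_iff_isSheaf_forget (etTop X) F.val.presheaf (CategoryTheory.forget AddCommGrpCat.{u + 1})).1
      F.isSheaf) _ hS)
  obtain ⟨t, ht, -⟩ := (Presieve.isSheafFor_arrows_iff _ _).1 hs (fun v => y (W v) (j v)) fun p q Q a b hab =>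
    eq_of_aff F _ _ fun V' g hV' => by
      change res F g (res F a (y (W p) (j p))) = res F g (res F b (y (W q) (j q)))
      rw [← res_comp, ← res_comp, nat _ _ _ _ (hW p) hV', nat _ _ _ _ (hW q) hV', Category.assoc, Category.assoc,
        hab]
  refine ⟨t, fun V' g hV' r' hr' => ?_⟩
  rw [← hy V' g hV' r' hr']
  refine eq_of_aff F _ _ fun V'' k hV'' => ?_
  rw [← res_comp, nat V' V'' g k hV' hV'']
  have hR := (etTop X).pullback_stable (k ≫ g) hS
  refine sub_eq_zero.1 (Gen.eq_zero_of_local F _ hR fun Y h hh => eq_of_aff F _ _ fun V₃ c hV₃ => ?_)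
  obtain ⟨p, q, hq⟩ := (Sieve.mem_ofArrows_iff _ _ _).1 hh
  change res F c (res F h (res F (k ≫ g) t - y V'' (k ≫ g))) = res F c 0
  rw [map_zero, map_sub, map_sub, ← res_comp F h (k ≫ g) t, hq, res_comp F q (j p) t,
    ← res_comp F c q, show res F (j p) t = y (W p) (j p) from ht p, nat _ _ _ _ (hW p) hV₃,
    ← res_comp F c h, nat V'' V₃ _ _ hV'' hV₃, Category.assoc, ← hq, Category.assoc, sub_self]

/-- The product of a function on the closed subspace and a section. -/
def prodX {V : EtOver X} (r : Fn ((EtOver.bc hrep).obj V)) (x : sectModEt F V) : sectModEt F V :=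
  (exists_isProd hrep F hi hF r x).choose

theorem prodX_spec {V : EtOver X} (r : Fn ((EtOver.bc hrep).obj V)) (x : sectModEt F V) :
    IsProd hrep F r x (prodX hrep F hi hF r x) :=
  (exists_isProd hrep F hi hF r x).choose_spec

theorem res_prodX {V V' : EtOver X} (v : V' ⟶ V) (r : Fn ((EtOver.bc hrep).obj V)) (x : sectModEt F V) :
    res F v (prodX hrep F hi hF r x) = prodX hrep F hi hF (rmap ((EtOver.bc hrep).map v) r) (res F v x) :=
  isProd_unique hrep F hi
    (fun V'' g hV'' r' hr' => by
      rw [← res_comp, prodX_spec hrep F hi hF r x V'' (g ≫ v) hV'' r' (by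
        rw [hr', Functor.map_comp, rmap_comp]), res_comp])
    (prodX_spec hrep F hi hF _ _)

theorem prodX_π {V : EtOver X} (a : Fn V) (x : sectModEt F V) :
    prodX hrep F hi hF (π hrep V a) x = a • x :=
  isProd_unique hrep F hi (prodX_spec hrep F hi hF _ _) fun V' g hV' r' hr' => by
    rw [res_smul]
    refine sub_eq_zero.1 ?_
    rw [← sub_smul]
    exact hF V' hV' _ (by rw [map_sub, hr', ← π_natural, sub_self]) _

end Groth.Agent.PushImage13

end
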