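import Groth.Agent.PushImage13.Action
import Mathlib.Algebra.Category.ModuleCat.Sheaf.Limits

/-!
# A module killed by the ideal of a closed subspace is a direct image
-/

set_option autoImplicit false
set_option backward.isDefEq.respectTransparency false
set_option backward.isDefEq.respectTransparency.types false

noncomputable section

universe u

open CategoryTheory CategoryTheory.Limits AlgebraicGeometry Opposite AlgSp Topology
open Groth.Agent.AlgSpDec Groth.Agent.QCart13

namespace Groth.Agent.PushImage13

variable {S : Scheme.{u}} {Z X : Sp S}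

/-- Pairs of a function and a section. -/
def pairPre (A : AbEt Z) : (EtOver Z)ᵒᵖ ⥤ Type (u + 1) where
  obj W := Fn W.unop × A.obj.obj W
  map g := ↾fun p => (rmap g.unop p.1, A.obj.map g p.2)
  map_id W := by
    ext p
    · rfl
    · exact ConcreteCategory.congr_hom (A.obj.map_id W) p.2
  map_comp g g' := by
    ext p
    · rfl
    · exact ConcreteCategory.congr_hom (A.obj.map_comp g g') p.2

theorem isSheaf_pairPre (A : AbEt Z) : Presheaf.IsSheaf (etTop Z) (pairPre A) := by
  rw [isSheaf_iff_isSheaf_of_type]
  intro W R hR x hx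
  have hO := ((isSheaf_iff_isSheaf_of_type _ _).1
    ((sheafCompose (etTop Z) (CategoryTheory.forget CommRingCat.{u + 1})).obj (OEt Z)).property) R hR
  have hA := ((isSheaf_iff_isSheaf_of_type _ _).1
    ((sheafCompose (etTop Z) (CategoryTheory.forget AddCommGrpCat.{u + 1})).obj A).property) R hR
  obtain ⟨r, hr, hr'⟩ := hO (fun Y g hg => ULift.up (x g hg).1)
    (fun _ _ _ g₁ g₂ _ _ h₁ h₂ e => congrArg (fun p : Fn _ × _ => ULift.up p.1) (hx g₁ g₂ h₁ h₂ e))
  obtain ⟨a, ha, ha'⟩ := hA (fun Y g hg => (x g hg).2)
    (fun _ _ _ g₁ g₂ _ _ h₁ h₂ e => congrArg Prod.snd (hx g₁ g₂ h₁ h₂ e))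
  refine ⟨(r.down, a), fun Y g hg => Prod.ext (congrArg ULift.down (hr g hg)) (ha g hg), fun p hp => ?_⟩
  refine Prod.ext (congrArg ULift.down (hr' (ULift.up p.1) fun Y g hg => ?_)) (ha' p.2 fun Y g hg => congrArg Prod.snd (hp g hg))
  exact congrArg (fun q : Fn _ × _ => ULift.up q.1) (hp g hg)

/-- Pairs of a function and a section, as a sheaf. -/
def pairSh (A : AbEt Z) : EtSh Z (Type (u + 1)) := ⟨pairPre A, isSheaf_pairPre A⟩

/-- Sections, as a sheaf of sets. -/
def secSh (A : AbEt Z) : EtSh Z (Type (u + 1)) :=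
  (sheafCompose (etTop Z) (CategoryTheory.forget AddCommGrpCat.{u + 1})).obj A

variable {f : Z ⟶ X} {hrep : Representable f} {F : ModEt X} {A : AbEt Z}
  (e : (pushEt hrep AddCommGrpCat.{u + 1}).obj A ≅ (toAbEt X).obj F)

/-- The comparison over an object below. -/
def eV (V : EtOver X) : A.obj.obj (op ((EtOver.bc hrep).obj V)) ≃+ sectModEt F V :=
  AddEquiv.ofBijective (e.hom.hom.app (op V)).hom
    (ConcreteCategory.bijective_of_isIso (((sheafToPresheaf _ _).mapIso e).app (op V)).hom)

theorem eV_map {V V' : EtOver X} (v : V' ⟶ V) (a : A.obj.obj (op ((EtOver.bc hrep).obj V))) :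
    eV e V' (A.obj.map ((EtOver.bc hrep).map v).op a) = res F v (eV e V a) :=
  ConcreteCategory.congr_hom (e.hom.hom.naturality v.op) a

theorem eV_symm_map {V V' : EtOver X} (v : V' ⟶ V) (x : sectModEt F V) :
    A.obj.map ((EtOver.bc hrep).map v).op ((eV e V).symm x) = (eV e V').symm (res F v x) := by
  refine (eV e V').injective ?_
  rw [eV_map, AddEquiv.apply_symm_apply, AddEquiv.apply_symm_apply]

variable (hi : RepWith @IsClosedImmersion f) (hF : Killed hrep F) (hX : IsAlgSpace X)

/-- The action over the objects below. -/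
def actBelow : (pushEt hrep (Type (u + 1))).obj (pairSh A) ⟶ (pushEt hrep (Type (u + 1))).obj (secSh A) :=
  ObjectProperty.homMk
    { app := fun V => ↾fun p : Fn ((EtOver.bc hrep).obj V.unop) × A.obj.obj (op ((EtOver.bc hrep).obj V.unop)) =>
        (eV e V.unop).symm (prodX hrep F hi hF p.1 (eV e V.unop p.2))
      naturality := fun V V' v => by
        ext p
        change (eV e V'.unop).symm (prodX hrep F hi hF (rmap ((EtOver.bc hrep).map v.unop) p.1)
            (eV e V'.unop (A.obj.map ((EtOver.bc hrep).map v.unop).op p.2))) =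
          A.obj.map ((EtOver.bc hrep).map v.unop).op
            ((eV e V.unop).symm (prodX hrep F hi hF p.1 (eV e V.unop p.2)))
        rw [eV_map, ← res_prodX, eV_symm_map] }

include e hi hF hX in
theorem exists_act : ∃ m : pairSh A ⟶ secSh A, (pushEt hrep (Type (u + 1))).map m = actBelow e hi hF :=
  haveI := PushDense13.full_pushEt hrep (PushDense13.dense_of_isClosedImmersion hrep hX hi)
    (PushDense13.emb_of_isClosedImmersion hrep hi) (Type (u + 1))
  (pushEt hrep (Type (u + 1))).map_surjective _

/-- The action of functions. -/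
def act (W : EtOver Z) (r : Fn W) (a : A.obj.obj (op W)) : A.obj.obj (op W) :=
  (exists_act e hi hF hX).choose.hom.app (op W) ((r, a) : Fn W × A.obj.obj (op W))

theorem map_act {W W' : EtOver Z} (g : W' ⟶ W) (r : Fn W) (a : A.obj.obj (op W)) :
    A.obj.map g.op (act e hi hF hX W r a) = act e hi hF hX W' (rmap g r) (A.obj.map g.op a) :=
  (ConcreteCategory.congr_hom ((exists_act e hi hF hX).choose.hom.naturality g.op)
    ((r, a) : Fn W × A.obj.obj (op W))).symm

theorem eV_act (V : EtOver X) (r : Fn ((EtOver.bc hrep).obj V)) (a : A.obj.obj (op ((EtOver.bc hrep).obj V))) :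
    eV e V (act e hi hF hX _ r a) = prodX hrep F hi hF r (eV e V a) := by
  have h := congrArg (fun k : (pushEt hrep (Type (u + 1))).obj (pairSh A) ⟶ (pushEt hrep (Type (u + 1))).obj (secSh A) =>
    k.hom.app (op V) ((r, a) : Fn ((EtOver.bc hrep).obj V) × A.obj.obj (op ((EtOver.bc hrep).obj V))))
    (exists_act e hi hF hX).choose_spec
  exact (congrArg (eV e V) h).trans ((eV e V).apply_symm_apply _)

theorem eV_act_π {V : EtOver X} (c : Fn V) (a : A.obj.obj (op ((EtOver.bc hrep).obj V))) :
    eV e V (act e hi hF hX _ (π hrep V c) a) = c • eV e V a :=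
  (eV_act e hi hF hX V _ a).trans (prodX_π hrep F hi hF c _)

include hi hX in
/-- Checking on base changes of affine objects. -/
theorem ext_bc {W : EtOver Z} {x y : A.obj.obj (op W)}
    (h : ∀ (V : EtOver X), Aff V → ∀ b : (EtOver.bc hrep).obj V ⟶ W,
      eV e V (A.obj.map b.op x) = eV e V (A.obj.map b.op y)) : x = y :=
  eq_of_bc hrep hi hX A x y fun V hV b => (eV e V).injective (h V hV b)

/-- The module structure. -/
abbrev actModule (W : (EtOver Z)ᵒᵖ) : Module ((OEtRing Z).obj.obj W) (A.obj.obj W) where
  smul r a := act e hi hF hX W.unop r.down a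
  one_smul a := ext_bc e hi hX fun V hV b => by
    change eV e V (A.obj.map b.op (act e hi hF hX W.unop 1 a)) = _
    rw [map_act, map_one, ← map_one (π hrep V), eV_act_π, one_smul]
  mul_smul r r' a := ext_bc e hi hX fun V hV b => by
    change eV e V (A.obj.map b.op (act e hi hF hX W.unop (r.down * r'.down) a)) =
      eV e V (A.obj.map b.op (act e hi hF hX W.unop r.down (act e hi hF hX W.unop r'.down a)))
    obtain ⟨c, hc⟩ := π_surjective hrep hi hV (rmap b r.down)
    obtain ⟨c', hc'⟩ := π_surjective hrep hi hV (rmap b r'.down)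
    rw [map_act, map_act, map_act, map_mul, ← hc, ← hc', ← map_mul (π hrep V), eV_act_π, eV_act_π, eV_act_π,
      mul_smul]
  smul_zero r := ext_bc e hi hX fun V hV b => by
    change eV e V (A.obj.map b.op (act e hi hF hX W.unop r.down 0)) = _
    obtain ⟨c, hc⟩ := π_surjective hrep hi hV (rmap b r.down)
    rw [map_act, ← hc, eV_act_π, map_zero, map_zero, smul_zero]
  smul_add r a a' := ext_bc e hi hX fun V hV b => by
    change eV e V (A.obj.map b.op (act e hi hF hX W.unop r.down (a + a'))) =
      eV e V (A.obj.map b.op (act e hi hF hX W.unop r.down a + act e hi hF hX W.unop r.down a'))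
    obtain ⟨c, hc⟩ := π_surjective hrep hi hV (rmap b r.down)
    simp only [map_act, map_add, ← hc, eV_act_π, smul_add]
  add_smul r r' a := ext_bc e hi hX fun V hV b => by
    change eV e V (A.obj.map b.op (act e hi hF hX W.unop (r.down + r'.down) a)) =
      eV e V (A.obj.map b.op (act e hi hF hX W.unop r.down a + act e hi hF hX W.unop r'.down a))
    obtain ⟨c, hc⟩ := π_surjective hrep hi hV (rmap b r.down)
    obtain ⟨c', hc'⟩ := π_surjective hrep hi hV (rmap b r'.down)
    rw [map_act, map_add, map_add, map_add, map_act, map_act, ← hc, ← hc', ← map_add (π hrep V), eV_act_π,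
      eV_act_π, eV_act_π, add_smul]
  zero_smul a := ext_bc e hi hX fun V hV b => by
    change eV e V (A.obj.map b.op (act e hi hF hX W.unop 0 a)) = _
    rw [map_act, map_zero, ← map_zero (π hrep V), eV_act_π, zero_smul, map_zero, map_zero]

/-- The presheaf of modules above. -/
def preAbove : PresheafOfModules.{u + 1} (OEtRing Z).obj :=
  letI := actModule e hi hF hX
  PresheafOfModules.ofPresheaf A.obj fun _ _ g r a => map_act e hi hF hX g.unop r.down a

/-- The module above. -/
def modAbove : ModEt Z where
  val := preAbove e hi hF hX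
  isSheaf := A.property

theorem res_modAbove {W W' : EtOver Z} (g : W' ⟶ W) (a : A.obj.obj (op W)) :
    res (modAbove e hi hF hX) g a = A.obj.map g.op a := rfl

theorem eV_smul (V : EtOver X) (c : Fn V) (a : sectModEt (modAbove e hi hF hX) ((EtOver.bc hrep).obj V)) :
    eV e V ((π hrep V c • a : sectModEt (modAbove e hi hF hX) ((EtOver.bc hrep).obj V))) = c • eV e V a :=
  eV_act_π e hi hF hX c a

/-- The direct image of the module above is the given one. -/
def pushIso : (pushModEt hrep).obj (modAbove e hi hF hX) ≅ F :=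
  let φ : (pushModEt hrep).obj (modAbove e hi hF hX) ⟶ F :=
    ⟨PresheafOfModules.homMk e.hom.hom fun V r a => by
      change eV e V.unop (act e hi hF hX ((EtOver.bc hrep).obj V.unop) (π hrep V.unop r.down) a) =
        r • (show F.val.obj V from eV e V.unop a)
      exact eV_act_π e hi hF hX r.down a⟩
  haveI : IsIso ((toAbEt X).map φ) := by
    have h : (toAbEt X).map φ = e.hom := by ext; rfl
    rw [h]
    infer_instance
  haveI : IsIso φ := isIso_of_reflects_iso φ (toAbEt X)
  asIso φ

end Groth.Agent.PushImage13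

end
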